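import Mathlib.RingTheory.Smooth.StandardSmoothOfFree
import Mathlib.RingTheory.Smooth.StandardSmoothCotangent
import Mathlib.RingTheory.Kaehler.TensorProduct
import Mathlib.RingTheory.Smooth.Locus

/-!
# A hypersurface with nowhere vanishing differential in a standard smooth algebra
-/

set_option linter.style.haveILetI false
set_option backward.isDefEq.respectTransparency.types false

universe u

open KaehlerDifferential
open scoped TensorProduct

namespace Groth.Agent.Lib.BertiniAff.Quotient

variable {k A : Type u} [CommRing k] [CommRing A] [Algebra k A]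

theorem formallySmooth_quotient [Algebra.FormallySmooth k A] (coord : Ω[A⁄k] →ₗ[A] A) (h : A)
    (hu : IsUnit (coord (D k A h))) (I : Ideal A) (hI : I = Ideal.span {h}) :
    Algebra.FormallySmooth k (A ⧸ I) := by
  have hsurj : Function.Surjective (algebraMap A (A ⧸ I)) := Ideal.Quotient.mk_surjective
  rw [Algebra.FormallySmooth.iff_split_injection hsurj]
  obtain ⟨w, hw⟩ := hu.exists_left_inv
  let K := RingHom.ker (algebraMap A (A ⧸ I))
  have hK : ∀ z, z ∈ K ↔ z ∈ I := fun z => Ideal.Quotient.eq_zero_iff_mem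
  have hh : h ∈ K := (hK h).mpr (hI ▸ Ideal.mem_span_singleton_self h)
  let cls : K.Cotangent := K.toCotangent ⟨h, hh⟩
  have hkill : ∀ z ∈ K, ∀ q : K.Cotangent, z • q = 0 := fun z hz q => by
    obtain ⟨⟨y, hy⟩, rfl⟩ := K.toCotangent_surjective q
    rw [← map_smul, Ideal.toCotangent_eq_zero]
    exact (pow_two K).symm ▸ Ideal.mul_mem_mul hz hy
  let l0 : Ω[A⁄k] →ₗ[A] K.Cotangent := (LinearMap.toSpanSingleton A _ (w • cls)).comp coord
  let bil : (A ⧸ I) →ₗ[A] Ω[A⁄k] →ₗ[A] K.Cotangent :=
    Submodule.liftQ I (LinearMap.toSpanSingleton A _ l0) fun z hz => by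
      rw [LinearMap.mem_ker]
      exact LinearMap.ext fun m => hkill z ((hK z).mpr hz) (l0 m)
  refine ⟨TensorProduct.lift bil, LinearMap.ext fun q => ?_⟩
  obtain ⟨⟨y, hy⟩, rfl⟩ := K.toCotangent_surjective q
  obtain ⟨c, rfl⟩ := Ideal.mem_span_singleton'.mp (hI ▸ (hK y).mp hy)
  rw [LinearMap.comp_apply, kerCotangentToTensor_toCotangent, TensorProduct.lift.tmul,
    LinearMap.id_apply]
  show (bil (Submodule.Quotient.mk 1)) (D k A (c * h)) = _
  rw [Submodule.liftQ_apply, LinearMap.toSpanSingleton_apply, one_smul, Derivation.leibniz, map_add,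
    map_smul, map_smul, hkill h hh, add_zero]
  simp only [l0, LinearMap.comp_apply, LinearMap.toSpanSingleton_apply, smul_smul]
  rw [mul_comm (coord (D k A h)) w, hw, mul_one, ← map_smul]
  rfl

variable {σ : Type u} [Fintype σ]

/-- The quotient is standard smooth of relative dimension one less. -/
theorem isStandardSmoothOfRelativeDimension_quotient (r : ℕ) [Algebra.FinitePresentation k A]
    [Algebra.FormallySmooth k A] (b : Module.Basis σ A Ω[A⁄k]) (hb : Set.range b ⊆ Set.range (D k A))
    (hcard : Fintype.card σ = r) (h : A) (i : σ) (hu : IsUnit (b.repr (D k A h) i)) (I : Ideal A)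
    (hI : I = Ideal.span {h}) [Nontrivial (A ⧸ I)] :
    Algebra.IsStandardSmoothOfRelativeDimension (r - 1) k (A ⧸ I) := by
  classical
  haveI := formallySmooth_quotient (b.coord i) h hu I hI
  haveI : Algebra.FinitePresentation k (A ⧸ I) :=
    Algebra.FinitePresentation.quotient (hI ▸ Submodule.fg_span_singleton h)
  let C := A ⧸ I
  let b' : Module.Basis σ C (C ⊗[A] Ω[A⁄k]) := b.baseChange C
  have hsurj : Function.Surjective (algebraMap A C) := Ideal.Quotient.mk_surjective
  let μ := mapBaseChange k A C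
  have hμsurj : Function.Surjective μ := mapBaseChange_surjective k A C hsurj
  let v : C ⊗[A] Ω[A⁄k] := 1 ⊗ₜ D k A h
  let u : C := b'.repr v i
  have huu : IsUnit u := by
    have : u = algebraMap A C (b.repr (D k A h) i) := by
      simp [u, v, b', Algebra.algebraMap_eq_smul_one]
    exact this ▸ hu.map _
  have hμv : μ v = 0 := by
    simp only [μ, v, mapBaseChange_tmul, map_D, one_smul]
    rw [show algebraMap A C h = 0 from
      Ideal.Quotient.eq_zero_iff_mem.mpr (hI ▸ Ideal.mem_span_singleton_self h), map_zero]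
  have hker : ∀ m, μ m = 0 → ∃ c : C, m = c • v := by
    intro m hm
    obtain ⟨q, rfl⟩ := (exact_kerCotangentToTensor_mapBaseChange k A C hsurj m).mp hm
    obtain ⟨⟨y, hy⟩, rfl⟩ := (RingHom.ker (algebraMap A C)).toCotangent_surjective q
    obtain ⟨c, rfl⟩ := Ideal.mem_span_singleton'.mp
      (hI ▸ (Ideal.Quotient.eq_zero_iff_mem.mp hy : y ∈ I))
    refine ⟨algebraMap A C c, ?_⟩
    rw [kerCotangentToTensor_toCotangent, Derivation.leibniz, TensorProduct.tmul_add,
      TensorProduct.tmul_smul, TensorProduct.tmul_smul, algebraMap_smul]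
    have : h • ((1 : C) ⊗ₜ[A] D k A c) = 0 := by
      rw [← algebraMap_smul C, show algebraMap A C h = 0 from
        Ideal.Quotient.eq_zero_iff_mem.mpr (hI ▸ Ideal.mem_span_singleton_self h), zero_smul]
    rw [this, add_zero]
  have hsum : v = u • b' i + ∑ j ∈ Finset.univ.erase i, b'.repr v j • b' j := by
    conv_lhs => rw [← b'.sum_repr v]
    exact (Finset.add_sum_erase _ _ (Finset.mem_univ i)).symm
  let τ := {j : σ // j ≠ i}
  have hli : LinearIndependent C fun j : τ => μ (b' j.1) := by
    rw [Fintype.linearIndependent_iff]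
    intro t ht j
    simp only [← map_smul, ← map_sum] at ht
    obtain ⟨c, hc⟩ := hker _ ht
    have h1 := congrArg (fun m => b'.repr m i) hc
    have h2 := congrArg (fun m => b'.repr m j.1) hc
    simp only [map_sum, map_smul, Finsupp.coe_finsetSum, Finsupp.coe_smul, Finset.sum_apply,
      Pi.smul_apply, b'.repr_self, smul_eq_mul, Finsupp.single_apply] at h1 h2
    rw [Finset.sum_eq_zero (fun l _ => by rw [if_neg l.2, mul_zero])] at h1
    have hc0 : c = 0 := huu.mul_left_eq_zero.mp h1.symm
    simp only [hc0, zero_mul, Subtype.val_inj, mul_ite, mul_one, mul_zero] at h2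
    rw [← h2, Finset.sum_eq_single j (fun l _ hl => if_neg hl) (by simp), if_pos rfl]
  have hspan : ⊤ ≤ Submodule.span C (Set.range fun j : τ => μ (b' j.1)) := by
    intro z _
    obtain ⟨m, rfl⟩ := hμsurj z
    have hi : μ (b' i) ∈ Submodule.span C (Set.range fun j : τ => μ (b' j.1)) := by
      obtain ⟨u', hu'⟩ := huu.exists_left_inv
      have h1 := congrArg μ hsum
      rw [hμv, map_add, map_smul, map_sum] at h1
      rw [show μ (b' i) = u' • (u • μ (b' i)) by rw [smul_smul, hu', one_smul],
        eq_neg_of_add_eq_zero_left h1.symm]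
      refine Submodule.smul_mem _ _ (neg_mem (Submodule.sum_mem _ fun j hj => ?_))
      rw [map_smul]
      exact Submodule.smul_mem _ _ (Submodule.subset_span ⟨⟨j, Finset.ne_of_mem_erase hj⟩, rfl⟩)
    rw [← b'.sum_repr m, map_sum]
    refine Submodule.sum_mem _ fun j _ => ?_
    rw [map_smul]
    refine Submodule.smul_mem _ _ ?_
    by_cases hj : j = i
    · exact hj ▸ hi
    · exact Submodule.subset_span ⟨⟨j, hj⟩, rfl⟩
  let bC : Module.Basis τ C Ω[C⁄k] := Module.Basis.mk hli hspan
  have hbC : Set.range bC ⊆ Set.range (D k C) := by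
    rintro _ ⟨j, rfl⟩
    obtain ⟨s, hs⟩ := hb ⟨j.1, rfl⟩
    refine ⟨algebraMap A C s, ?_⟩
    rw [Module.Basis.mk_apply]
    simp [μ, b', ← hs, mapBaseChange_tmul, map_D]
  haveI : Subsingleton (Algebra.H1Cotangent k C) := inferInstance
  haveI : Algebra.IsStandardSmooth k C := .of_basis_kaehlerDifferential bC hbC
  rw [Algebra.IsStandardSmoothOfRelativeDimension.iff_of_isStandardSmooth]
  rw [rank_eq_card_basis bC]
  simp [τ, Fintype.card_subtype_compl, hcard]

end Groth.Agent.Lib.BertiniAff.Quotient
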