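import Groth.Agent.Lib.BertiniAff.Incidence
import Groth.Agent.Lib.BertiniAff.Quotient
import Groth.Agent.Lib.Kaehler.SmoothDim
import Mathlib.RingTheory.Localization.Away.Basic
import Mathlib.AlgebraicGeometry.Morphisms.Smooth

/-!
# Bertini for affine hyperplane sections
-/

set_option linter.style.haveILetI false
set_option backward.isDefEq.respectTransparency.types false

universe u

open CategoryTheory AlgebraicGeometry
open Groth.Agent.Lib.Dim.Basic

namespace Groth.Agent.Lib.BertiniAff.Main

variable {k : Type u} [Field k] {A : Type u} [CommRing A] [Algebra k A] [Algebra.FiniteType k A]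

theorem dimQ_comap_away (f : A) (P : Ideal (Localization.Away f)) [P.IsPrime]
    [Algebra.FiniteType k (Localization.Away f)] :
    dimQ k (P.comap (algebraMap A (Localization.Away f))) = dimQ k P := by
  have hbij := (RingHom.surjectiveOnStalks_of_isLocalization (Submonoid.powers f)
    (Localization.Away f)).residueFieldMap_bijective (P.comap (algebraMap A (Localization.Away f))) P rfl
  have he := (AlgEquiv.ofBijective (Ideal.ResidueField.mapₐ (P.comap (algebraMap A (Localization.Away f))) P
    (IsScalarTower.toAlgHom k A (Localization.Away f)) rfl) hbij).trdeg_eq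
  rw [trdeg_residueField, trdeg_residueField] at he
  exact_mod_cast he

theorem mem_minimalPrimes_comap_away (f : A) {P : Ideal (Localization.Away f)}
    (hP : P ∈ minimalPrimes (Localization.Away f)) :
    P.comap (algebraMap A (Localization.Away f)) ∈ minimalPrimes A := by
  haveI : P.IsPrime := hP.1.1
  refine ⟨⟨Ideal.IsPrime.comap _, bot_le⟩, fun p hp hle => ?_⟩
  haveI : p.IsPrime := hp.1
  have hd : Disjoint (Submonoid.powers f : Set A) p := by
    rw [Set.disjoint_left]
    intro z hz hzp
    exact (Ideal.IsPrime.ne_top ‹P.IsPrime›) (P.eq_top_of_isUnit_mem (hle hzp)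
      (IsLocalization.map_units (Localization.Away f) ⟨z, hz⟩))
  haveI := IsLocalization.isPrime_of_isPrime_disjoint (Submonoid.powers f) (Localization.Away f) p ‹_› hd
  intro z hz
  have h1 : P ≤ p.map (algebraMap A (Localization.Away f)) :=
    hP.2 ⟨inferInstance, bot_le⟩ (Ideal.map_le_iff_le_comap.mpr hle)
  have h2 := IsLocalization.under_map_of_isPrime_disjoint (Submonoid.powers f) (Localization.Away f) ‹p.IsPrime› hd
  rw [← h2]
  exact h1 hz

theorem span_D_eq_top {n : ℕ} {x : Fin n → A}
    (hx : Function.Surjective (MvPolynomial.aeval x : MvPolynomial (Fin n) k →ₐ[k] A)) (f : A) :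
    Submodule.span (Localization.Away f) (Set.range fun i =>
      KaehlerDifferential.D k (Localization.Away f) (algebraMap A (Localization.Away f) (x i))) = ⊤ := by
  set S := Submodule.span (Localization.Away f) (Set.range fun i =>
    KaehlerDifferential.D k (Localization.Away f) (algebraMap A (Localization.Away f) (x i))) with hS
  have hA : ∀ a : A, KaehlerDifferential.D k (Localization.Away f) (algebraMap A _ a) ∈ S := by
    intro a
    obtain ⟨p, rfl⟩ := hx a
    induction p using MvPolynomial.induction_on with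
    | C c =>
      rw [MvPolynomial.aeval_C, ← IsScalarTower.algebraMap_apply, Derivation.map_algebraMap]
      exact zero_mem _
    | add p q hp hq => rw [map_add, map_add, map_add]; exact add_mem hp hq
    | mul_X p i hp =>
      rw [map_mul, map_mul, MvPolynomial.aeval_X, Derivation.leibniz]
      exact add_mem (S.smul_mem _ (Submodule.subset_span ⟨i, rfl⟩)) (S.smul_mem _ hp)
  rw [eq_top_iff, ← KaehlerDifferential.span_range_derivation, Submodule.span_le]
  rintro _ ⟨z, rfl⟩
  obtain ⟨⟨a, s⟩, e⟩ := IsLocalization.surj (Submonoid.powers f) z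
  have h1 : algebraMap A (Localization.Away f) s • KaehlerDifferential.D k (Localization.Away f) z ∈ S := by
    have h2 := hA a
    rw [← e, Derivation.leibniz] at h2
    exact (Submodule.add_mem_iff_right S (S.smul_mem z (hA s))).mp h2
  exact (Submodule.smul_mem_iff_of_isUnit S (IsLocalization.map_units _ s)).mp h1

variable {n r : ℕ} (x : Fin n → A)

/-- The hyperplane `a₀ + ∑ aᵢ xᵢ`. -/
noncomputable def hyp (a : Fin (n + 1) → k) : A :=
  algebraMap k A (a 0) + ∑ i : Fin n, algebraMap k A (a i.succ) * x i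

theorem exists_poly_chart (hx : Function.Surjective (MvPolynomial.aeval x : MvPolynomial (Fin n) k →ₐ[k] A))
    (hdim : ∀ P ∈ minimalPrimes A, ringKrullDim (A ⧸ P) = r) (f : A)
    (hf : Algebra.IsStandardSmooth k (Localization.Away f)) :
    ∃ g : MvPolynomial (Fin (n + 1)) k, g ≠ 0 ∧ ∀ a : Fin (n + 1) → k, MvPolynomial.eval a g ≠ 0 →
      ∀ q : Ideal (A ⧸ Ideal.span {hyp x a}), q.IsPrime → f ∉ q.comap (Ideal.Quotient.mk _) →
        ∃ f' : A ⧸ Ideal.span {hyp x a}, f' ∉ q ∧
          Algebra.IsStandardSmoothOfRelativeDimension (r - 1) k (Localization.Away f') := by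
  classical
  let A' := Localization.Away f
  by_cases hnt : Nontrivial A'
  swap
  · refine ⟨1, one_ne_zero, fun a _ q hq hfq => absurd ?_ hnt⟩
    let P := q.comap (Ideal.Quotient.mk (Ideal.span {hyp x a}))
    haveI : P.IsPrime := Ideal.IsPrime.comap _
    have hd : Disjoint (Submonoid.powers f : Set A) P := by
      rwa [Ideal.disjoint_powers_iff_notMem_of_isPrime]
    exact ⟨⟨0, 1, fun h => (IsLocalization.isPrime_of_isPrime_disjoint (Submonoid.powers f) A' P
      inferInstance hd).ne_top (Ideal.eq_top_iff_one _ |>.mpr (h ▸ zero_mem _))⟩⟩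
  obtain ⟨ι₀, σ₀, _, _, ⟨pres⟩⟩ := hf.out
  haveI : Algebra.FinitePresentation k A' := inferInstance
  haveI : Algebra.FiniteType k A' := inferInstance
  haveI : Algebra.IsStandardSmoothOfRelativeDimension pres.dimension k A' :=
    pres.isStandardSmoothOfRelativeDimension rfl
  obtain ⟨P₀, hP₀⟩ := Ideal.nonempty_minimalPrimes (I := (⊥ : Ideal A')) bot_ne_top
  haveI : P₀.IsPrime := hP₀.1.1
  have hd : pres.dimension = r := by
    have h1 := Kaehler.SmoothDim.dimQ_of_minimal k (n := pres.dimension) hP₀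
    rw [← dimQ_comap_away f P₀] at h1
    have h2 := hdim _ (mem_minimalPrimes_comap_away f hP₀)
    rw [ringKrullDim_quotient_prime k, h1] at h2
    exact_mod_cast h2
  have hdimA' : ∀ P : Ideal A', P.IsPrime → dimQ k P ≤ r := by
    intro P hP
    obtain ⟨Q, hQ, hQP⟩ := Ideal.exists_minimalPrimes_le (bot_le : (⊥ : Ideal A') ≤ P)
    haveI : Q.IsPrime := hQ.1.1
    refine (dimQ_anti k hQP).trans (le_of_eq ?_)
    rw [Kaehler.SmoothDim.dimQ_of_minimal k (n := pres.dimension) hQ, hd]
  obtain ⟨-, I₀, b₀, hb₀⟩ :=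
    Algebra.IsStandardSmooth.iff_exists_basis_kaehlerDifferential.mp hf
  haveI : Finite I₀ := Module.Finite.finite_basis b₀
  haveI : Algebra.IsStandardSmoothOfRelativeDimension r k A' := hd ▸ ‹_›
  have hcard : Nat.card I₀ = r := by
    have h1 := Algebra.IsStandardSmoothOfRelativeDimension.rank_kaehlerDifferential (R := k) (S := A') r
    rw [← Module.finrank_eq_nat_card_basis b₀]
    exact Module.finrank_eq_of_rank_eq h1
  let e : I₀ ≃ Fin r := (Finite.equivFin I₀).trans (finCongr hcard)
  let b : Module.Basis (Fin r) A' Ω[A'⁄k] := b₀.reindex e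
  have hb : Set.range b ⊆ Set.range (KaehlerDifferential.D k A') := by
    rw [Module.Basis.range_reindex]; exact hb₀
  let x' : Fin n → A' := fun i => algebraMap A A' (x i)
  let φ : Fin r → Fin n → A' := fun l i => b.repr (KaehlerDifferential.D k A' (x' i)) l
  have hc : ∀ j, ∃ c : Fin n → A', ∑ i, c i • KaehlerDifferential.D k A' (x' i) = b j := fun j =>
    (Submodule.mem_span_range_iff_exists_fun A').mp ((span_D_eq_top hx f).symm ▸ Submodule.mem_top)
  choose c hc using hc
  have hinv : ∀ j l, ∑ i, c j i * φ l i = if l = j then 1 else 0 := fun j l => by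
    have h1 := congrArg (fun m => b.repr m l) (hc j)
    simpa [φ, Finsupp.single_apply, eq_comm] using h1
  obtain ⟨g, hg0, hg⟩ := Incidence.exists_poly k x' φ c hinv hdimA'
  refine ⟨g, hg0, fun a ha q hq hfq => ?_⟩
  let P := q.comap (Ideal.Quotient.mk (Ideal.span {hyp x a}))
  haveI : P.IsPrime := Ideal.IsPrime.comap _
  have hdj : Disjoint (Submonoid.powers f : Set A) P := by
    rwa [Ideal.disjoint_powers_iff_notMem_of_isPrime]
  let P' := P.map (algebraMap A A')
  haveI hP' : P'.IsPrime := IsLocalization.isPrime_of_isPrime_disjoint (Submonoid.powers f) A' P ‹_› hdj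
  let h' := algebraMap A A' (hyp x a)
  have hh' : h' = algebraMap k A' (a 0) + ∑ i : Fin n, algebraMap k A' (a i.succ) * x' i := by
    simp [h', hyp, x', ← IsScalarTower.algebraMap_apply]
  have hhP : h' ∈ P' := Ideal.mem_map_of_mem _
    (show Ideal.Quotient.mk _ (hyp x a) ∈ q by
      rw [Ideal.Quotient.eq_zero_iff_mem.mpr (Ideal.mem_span_singleton_self _)]; exact zero_mem _)
  obtain ⟨l, hl⟩ := hg a ha P' hP' (hh' ▸ hhP)
  let c₀ : A' := b.repr (KaehlerDifferential.D k A' h') l
  have hc₀ : c₀ ∉ P' := by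
    have : c₀ = ∑ i, algebraMap k A' (a i.succ) * φ l i := by
      simp [c₀, φ, hh', map_add, map_sum, Derivation.leibniz]
      refine Finset.sum_congr rfl fun i _ => ?_
      rw [← algebraMap_smul A' (a i.succ), map_smul, Finsupp.smul_apply, smul_eq_mul]
    rwa [this]
  let c₁ := (IsLocalization.Away.sec f c₀).1
  let A'' := Localization.Away c₀
  haveI : IsLocalization.Away (f * c₁) A'' :=
    .mul_of_associated _ _ c₀ (IsLocalization.Away.associated_sec_fst f c₀)
  have hc₁ : f * c₁ ∉ P := by
    refine Ideal.IsPrime.mul_notMem ‹_› hfq fun hmem => hc₀ ?_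
    rw [Ideal.mem_iff_of_associated (IsLocalization.Away.associated_sec_fst f c₀).symm]
    exact Ideal.mem_map_of_mem _ hmem
  refine ⟨Ideal.Quotient.mk _ (f * c₁), hc₁, ?_⟩
  haveI : Algebra.IsStandardSmoothOfRelativeDimension 0 A' A'' :=
    .localization_away c₀
  haveI : Algebra.IsStandardSmoothOfRelativeDimension (0 + r) k A'' :=
    Algebra.IsStandardSmoothOfRelativeDimension.trans r 0 k A' A''
  haveI : Algebra.IsStandardSmooth k A'' :=
    Algebra.IsStandardSmoothOfRelativeDimension.isStandardSmooth (0 + r)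
  haveI : Algebra.FormallyEtale A' A'' := .of_isLocalization (Submonoid.powers c₀)
  let bb : Module.Basis (Fin r) A'' Ω[A''⁄k] :=
    (b.baseChange A'').map (KaehlerDifferential.tensorKaehlerEquivOfFormallyEtale k A' A'')
  have hbbD : Set.range bb ⊆ Set.range (KaehlerDifferential.D k A'') := by
    rintro _ ⟨j, rfl⟩
    obtain ⟨s, hs⟩ := hb ⟨j, rfl⟩
    refine ⟨algebraMap A' A'' s, ?_⟩
    rw [show bb j = KaehlerDifferential.tensorKaehlerEquivOfFormallyEtale k A' A'' (1 ⊗ₜ b j) by simp [bb],
      ← hs, ← KaehlerDifferential.tensorKaehlerEquivOfFormallyEtale_symm_D_algebraMap,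
      LinearEquiv.apply_symm_apply]
  let σ := ULift.{u} (Fin r)
  let bσ : Module.Basis σ A'' Ω[A''⁄k] := bb.reindex Equiv.ulift.symm
  let h'' := algebraMap A A'' (hyp x a)
  have hu : IsUnit (bσ.repr (KaehlerDifferential.D k A'' h'') ⟨l⟩) := by
    have h1 : KaehlerDifferential.D k A'' h'' =
        KaehlerDifferential.tensorKaehlerEquivOfFormallyEtale k A' A'' (1 ⊗ₜ KaehlerDifferential.D k A' h') := by
      rw [← KaehlerDifferential.tensorKaehlerEquivOfFormallyEtale_symm_D_algebraMap,
        LinearEquiv.apply_symm_apply, ← IsScalarTower.algebraMap_apply]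
    have : bσ.repr (KaehlerDifferential.D k A'' h'') ⟨l⟩ = algebraMap A' A'' c₀ := by
      rw [h1]
      simp only [bσ, bb, Module.Basis.repr_reindex, Module.Basis.map_repr, LinearEquiv.trans_apply,
        LinearEquiv.symm_apply_apply, Module.Basis.baseChange_repr_tmul]
      simp [c₀, Algebra.algebraMap_eq_smul_one]
      rfl
    rw [this]
    exact IsLocalization.map_units A'' ⟨c₀, Submonoid.mem_powers _⟩
  let I : Ideal A'' := (Ideal.span {hyp x a}).map (algebraMap A A'')
  have hI : I = Ideal.span {h''} := by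
    simp [I, h'', Ideal.map_span]
  haveI : IsLocalization.Away (Ideal.Quotient.mk (Ideal.span {hyp x a}) (f * c₁)) (A'' ⧸ I) := by
    have := (inferInstance : IsLocalization (Algebra.algebraMapSubmonoid (A ⧸ Ideal.span {hyp x a})
      (Submonoid.powers (f * c₁))) (A'' ⧸ I))
    rwa [Algebra.algebraMapSubmonoid_powers] at this
  haveI : Nontrivial (A'' ⧸ I) := by
    rw [IsLocalization.Away] at *
    refine ⟨⟨0, 1, fun h01 => ?_⟩⟩
    obtain ⟨⟨_, N, rfl⟩, hN⟩ := (IsLocalization.eq_iff_exists
      (Submonoid.powers (Ideal.Quotient.mk (Ideal.span {hyp x a}) (f * c₁))) (A'' ⧸ I)).mp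
      (show algebraMap (A ⧸ Ideal.span {hyp x a}) (A'' ⧸ I) 0 = algebraMap _ _ 1 by simpa using h01)
    exact hc₁ (hq.mem_of_pow_mem N (by
      have h2 : Ideal.Quotient.mk (Ideal.span {hyp x a}) (f * c₁) ^ N = 0 := by simpa using hN.symm
      rw [h2]; exact zero_mem _))
  haveI := Quotient.isStandardSmoothOfRelativeDimension_quotient r bσ
    (by rw [Module.Basis.range_reindex]; exact hbbD) (by simp [σ]) h'' ⟨l⟩ hu I hI
  haveI : IsScalarTower k (A ⧸ Ideal.span {hyp x a}) (A'' ⧸ I) :=
    IsScalarTower.of_algebraMap_eq fun y => by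
      change Ideal.Quotient.mk I (algebraMap k A'' y) = Ideal.Quotient.mk I (algebraMap A A'' (algebraMap k A y))
      rw [← IsScalarTower.algebraMap_apply]
  let eq : (A'' ⧸ I) ≃ₐ[k] Localization.Away (Ideal.Quotient.mk (Ideal.span {hyp x a}) (f * c₁)) :=
    (IsLocalization.algEquiv (Submonoid.powers (Ideal.Quotient.mk (Ideal.span {hyp x a}) (f * c₁)))
      (A'' ⧸ I) (Localization.Away (Ideal.Quotient.mk (Ideal.span {hyp x a}) (f * c₁)))).restrictScalars k
  exact Algebra.IsStandardSmoothOfRelativeDimension.of_algEquiv (n := r - 1) (R := k) (S := (A'' ⧸ I)) eq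

theorem bertini (hx : Function.Surjective (MvPolynomial.aeval x : MvPolynomial (Fin n) k →ₐ[k] A))
    (hdim : ∀ P ∈ minimalPrimes A, ringKrullDim (A ⧸ P) = r) :
    ∃ g : MvPolynomial (Fin (n + 1)) k, g ≠ 0 ∧
      ∀ a : Fin (n + 1) → k, MvPolynomial.eval a g ≠ 0 →
        ∀ (q : Ideal (A ⧸ Ideal.span {hyp x a})) (_ : q.IsPrime),
          (∃ f : A, f ∉ q.comap (Ideal.Quotient.mk _) ∧
            Smooth (Spec.map (CommRingCat.ofHom (algebraMap k (Localization.Away f))))) →
          ∃ f : A ⧸ Ideal.span {hyp x a}, f ∉ q ∧ SmoothOfRelativeDimension (r - 1)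
              (Spec.map (CommRingCat.ofHom (algebraMap k (Localization.Away f)))) := by
  classical
  haveI : IsNoetherianRing A := Algebra.FiniteType.isNoetherianRing k A
  haveI : Algebra.FinitePresentation k A := Algebra.FinitePresentation.of_finiteType.mp ‹_›
  let Sg : Set A := {f | Algebra.IsStandardSmooth k (Localization.Away f)}
  obtain ⟨t, htS, hts⟩ := (Submodule.fg_span_iff_fg_span_finset_subset Sg).mp
    (IsNoetherian.noetherian (Submodule.span A Sg))
  choose g hg0 hg using fun f : t => exists_poly_chart x hx hdim f.1 (htS f.2)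
  refine ⟨∏ f : t, g f, Finset.prod_ne_zero_iff.mpr fun f _ => hg0 f, fun a ha q hq ⟨f, hfq, hfs⟩ => ?_⟩
  let P := q.comap (Ideal.Quotient.mk (Ideal.span {hyp x a}))
  haveI : P.IsPrime := Ideal.IsPrime.comap _
  haveI : Algebra.Smooth k (Localization.Away f) :=
    RingHom.smooth_algebraMap.mp ((HasRingHomProperty.Spec_iff (P := @Smooth)).mp hfs)
  haveI : Algebra.IsSmoothAt k P :=
    (Algebra.basicOpen_subset_smoothLocus_iff_smooth (R := k) (f := f)).mpr inferInstance
      (show (⟨P, inferInstance⟩ : PrimeSpectrum A) ∈ PrimeSpectrum.basicOpen f from hfq)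
  obtain ⟨f₁, hf₁, hf₁s⟩ := Algebra.IsSmoothAt.exists_notMem_isStandardSmooth k P
  obtain ⟨f₂, hf₂, hf₂P⟩ : ∃ f₂ ∈ t, f₂ ∉ P := by
    by_contra! hc
    have h1 : Submodule.span A Sg ≤ P := hts.le.trans (Submodule.span_le.mpr hc)
    exact hf₁ (h1 (Submodule.subset_span hf₁s))
  have ha' : MvPolynomial.eval a (g ⟨f₂, hf₂⟩) ≠ 0 := by
    rw [map_prod, Finset.prod_ne_zero_iff] at ha
    exact ha _ (Finset.mem_univ _)
  obtain ⟨f', hf', hs⟩ := hg ⟨f₂, hf₂⟩ a ha' q hq hf₂P
  refine ⟨f', hf', (HasRingHomProperty.Spec_iff (P := @SmoothOfRelativeDimension (r - 1))).mpr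
    (RingHom.locally_of RingHom.isStandardSmoothOfRelativeDimension_respectsIso _ ?_)⟩
  exact (RingHom.isStandardSmoothOfRelativeDimension_algebraMap _).mpr hs

end Groth.Agent.Lib.BertiniAff.Main
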